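import Groth.Agent.Weitz.Hilbert
import Mathlib.Algebra.MvPolynomial.Rename
import Mathlib.Algebra.BigOperators.Module
import Mathlib.Tactic.FieldSimp

/-!
# Roberts' isomorphism

The kernel of the raising operator is the image of the invariants of the extension of the representation
by the standard one under evaluation at a fixed point of the raising operator.
-/

set_option autoImplicit false

universe u v

namespace Groth.Agent.Weitz

open MvPolynomial

theorem isWH_rename {k : Type u} [CommRing k] {σ τ : Type v} (w : σ → ℤ) (w' : τ → ℤ) (g : σ → τ)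
    (hw : ∀ s, w' (g s) = w s) {p : MvPolynomial σ k} {n : ℤ} (hp : IsWeightedHomogeneous w p n) :
    IsWeightedHomogeneous w' (rename g p) n := by
  intro d hd
  obtain ⟨u, rfl, hu⟩ := coeff_rename_ne_zero g p d hd
  rw [← hp hu, Finsupp.weight_apply, Finsupp.weight_apply,
    Finsupp.sum_mapDomain_index]
  · simp only [hw]
  · exact fun x => zero_nsmul _
  · exact fun x a b => add_nsmul _ a b

namespace Triple

variable {k : Type u} [Field k] {σ : Type} (T : Triple k σ)

/-- The raising operator on the extended ring. -/
noncomputable def extE : Derivation k (MvPolynomial (σ ⊕ Bool) k) (MvPolynomial (σ ⊕ Bool) k) :=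
  mkDerivation k (Sum.elim (fun s => rename Sum.inl (T.e (X s))) (fun b => if b then 0 else X (Sum.inr true)))

/-- The lowering operator on the extended ring. -/
noncomputable def extF : Derivation k (MvPolynomial (σ ⊕ Bool) k) (MvPolynomial (σ ⊕ Bool) k) :=
  mkDerivation k (Sum.elim (fun s => rename Sum.inl (T.f (X s))) (fun b => if b then X (Sum.inr false) else 0))

theorem extE_rename (p : MvPolynomial σ k) : T.extE (rename Sum.inl p) = rename Sum.inl (T.e p) := by
  induction p using MvPolynomial.induction_on with
  | C a => simp [extE, derivation_C]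
  | add p q hp hq => simp only [map_add, hp, hq]
  | mul_X p s hp =>
    simp only [map_mul, Derivation.leibniz, smul_eq_mul, map_add, hp, rename_X]
    simp [extE]

theorem extF_rename (p : MvPolynomial σ k) : T.extF (rename Sum.inl p) = rename Sum.inl (T.f p) := by
  induction p using MvPolynomial.induction_on with
  | C a => simp [extF, derivation_C]
  | add p q hp hq => simp only [map_add, hp, hq]
  | mul_X p s hp =>
    simp only [map_mul, Derivation.leibniz, smul_eq_mul, map_add, hp, rename_X]
    simp [extF]

/-- The representation enlarged by the standard representation. -/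
noncomputable def ext : Triple k (σ ⊕ Bool) where
  wt := Sum.elim T.wt (fun b : Bool => if b then 1 else -1)
  e := T.extE
  f := T.extF
  e_wt := by
    rintro (s | (_ | _))
    · simpa [extE] using isWH_rename T.wt (Sum.elim T.wt _) Sum.inl (fun _ => rfl) (T.e_wt s)
    · simpa [extE] using isWeightedHomogeneous_X k (Sum.elim T.wt (fun b : Bool => if b then 1 else -1)) (Sum.inr true)
    · simpa [extE] using isWeightedHomogeneous_zero k (Sum.elim T.wt (fun b : Bool => if b then 1 else -1)) (3 : ℤ)
  f_wt := by
    rintro (s | (_ | _))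
    · simpa [extF] using isWH_rename T.wt (Sum.elim T.wt _) Sum.inl (fun _ => rfl) (T.f_wt s)
    · simpa [extF] using isWeightedHomogeneous_zero k (Sum.elim T.wt (fun b : Bool => if b then 1 else -1)) (-3 : ℤ)
    · simpa [extF] using isWeightedHomogeneous_X k (Sum.elim T.wt (fun b : Bool => if b then 1 else -1)) (Sum.inr false)
  e_deg := by
    rintro (s | (_ | _))
    · simpa [extE] using (T.e_deg s).rename_isHomogeneous (f := Sum.inl)
    · simpa [extE] using isHomogeneous_X k (Sum.inr true : σ ⊕ Bool)
    · simpa [extE] using isHomogeneous_zero (σ ⊕ Bool) k 1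
  f_deg := by
    rintro (s | (_ | _))
    · simpa [extF] using (T.f_deg s).rename_isHomogeneous (f := Sum.inl)
    · simpa [extF] using isHomogeneous_zero (σ ⊕ Bool) k 1
    · simpa [extF] using isHomogeneous_X k (Sum.inr false : σ ⊕ Bool)
  bracket := by
    rintro (s | (_ | _))
    · have e1 : T.extE (X (Sum.inl s)) = rename Sum.inl (T.e (X s)) := by simp [extE]
      have f1 : T.extF (X (Sum.inl s)) = rename Sum.inl (T.f (X s)) := by simp [extF]
      rw [e1, f1, T.extE_rename, T.extF_rename, ← map_sub, T.bracket, map_smul, rename_X]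
      rfl
    · simp [extE, extF]
    · simp [extE, extF]

theorem ext_e_inl (p : MvPolynomial σ k) : T.ext.e (rename Sum.inl p) = rename Sum.inl (T.e p) := T.extE_rename p

theorem ext_f_inl (p : MvPolynomial σ k) : T.ext.f (rename Sum.inl p) = rename Sum.inl (T.f p) := T.extF_rename p

/-- Evaluation at the point fixed by the raising operator. -/
noncomputable def evPt : MvPolynomial (σ ⊕ Bool) k →ₐ[k] MvPolynomial σ k :=
  aeval (Sum.elim X (fun b => if b then 0 else 1))

theorem evPt_e (F : MvPolynomial (σ ⊕ Bool) k) : evPt (T.ext.e F) = T.e (evPt F) := by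
  induction F using MvPolynomial.induction_on with
  | C a =>
    rw [derivation_C, map_zero, show evPt (MvPolynomial.C a) = (MvPolynomial.C a : MvPolynomial σ k) from aeval_C _ a, derivation_C]
  | add p q hp hq => simp only [map_add, hp, hq]
  | mul_X p s hp =>
    simp only [map_mul, Derivation.leibniz, smul_eq_mul, map_add, hp]
    congr 1
    congr 1
    rcases s with s | (_ | _)
    · rw [show T.ext.e (X (Sum.inl s)) = rename Sum.inl (T.e (X s)) by simp [ext, extE],
        show evPt (X (Sum.inl s) : MvPolynomial (σ ⊕ Bool) k) = X s by simp [evPt]]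
      show aeval _ (rename Sum.inl (T.e (X s))) = _
      rw [aeval_rename]
      exact aeval_X_left_apply _
    · simp [ext, extE, evPt]
    · simp [ext, extE, evPt]

/-- The coefficients of the invariant attached to a primitive vector. -/
noncomputable def coef (k : Type u) [Field k] (j : ℕ) : k := (-1) ^ j / (j.factorial : k)

theorem coef_succ [CharZero k] (j : ℕ) : ((j + 1 : ℕ) : k) * coef k (j + 1) = -coef k j := by
  have h1 : ((j + 1 : ℕ) : k) ≠ 0 := Nat.cast_ne_zero.mpr j.succ_ne_zero
  have h2 : (j.factorial : k) ≠ 0 := Nat.cast_ne_zero.mpr j.factorial_ne_zero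
  simp only [coef, Nat.factorial_succ, Nat.cast_mul, pow_succ]
  field_simp

variable [Fintype σ] [CharZero k]

/-- A primitive vector extends to an invariant. -/
theorem exists_invariant_of_primitive {p : MvPolynomial σ k} {d : ℕ} (hd : IsHomogeneous p d) {n : ℤ}
    (hp : IsWeightedHomogeneous T.wt p n) (he : T.e p = 0) : ∃ F ∈ T.ext.inv, evPt F = p := by
  classical
  rcases eq_or_ne p 0 with rfl | hne
  · exact ⟨0, T.ext.inv.zero_mem, map_zero _⟩
  obtain ⟨m, rfl, hm⟩ := T.exists_nat_weight hd hp he hne
  let U : MvPolynomial (σ ⊕ Bool) k := X (Sum.inr true)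
  let V : MvPolynomial (σ ⊕ Bool) k := X (Sum.inr false)
  let P : ℕ → MvPolynomial (σ ⊕ Bool) k := fun j => rename Sum.inl (T.f^[j] p)
  let tm : ℕ → MvPolynomial (σ ⊕ Bool) k := fun j => coef k j • (P j * (U ^ j * V ^ (m - j)))
  have eU : T.ext.e U = 0 := by simp [ext, extE, U]
  have eV : T.ext.e V = U := by simp [ext, extE, U, V]
  have fU : T.ext.f U = V := by simp [ext, extF, U, V]
  have fV : T.ext.f V = 0 := by simp [ext, extF, V]
  have eP : ∀ j, T.ext.e (P (j + 1)) = (((j + 1 : ℕ) : k) * ((m : k) - (j : k))) • P j := fun j => by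
    rw [ext_e_inl, T.e_iterate_f hp he j, map_smul]
    norm_cast
  have eP0 : T.ext.e (P 0) = 0 := by
    rw [ext_e_inl, show T.f^[0] p = p from rfl, he, map_zero]
  have fP : ∀ j, T.ext.f (P j) = P (j + 1) := fun j => by
    rw [ext_f_inl, ← Function.iterate_succ_apply' T.f]
  have hPm : P (m + 1) = 0 := by simp [P, hm]
  refine ⟨∑ j ∈ Finset.range (m + 1), tm j, ⟨?_, ?_⟩, ?_⟩
  · let G : ℕ → MvPolynomial (σ ⊕ Bool) k := fun i => Nat.casesOn i 0
      fun j => (coef k j * ((m - j : ℕ) : k)) • (P j * (U ^ (j + 1) * V ^ (m - j - 1)))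
    have hG : ∀ j ∈ Finset.range (m + 1), T.ext.e (tm j) = G (j + 1) - G j := by
      intro j hj
      rw [Finset.mem_range] at hj
      have hVU : T.ext.e (U ^ j * V ^ (m - j)) = ((m - j : ℕ) : k) • (U ^ (j + 1) * V ^ (m - j - 1)) := by
        rw [Derivation.leibniz, Derivation.leibniz_pow, Derivation.leibniz_pow, eU, eV]
        simp only [smul_zero, add_zero, smul_eq_mul, Nat.cast_smul_eq_nsmul, pow_succ, nsmul_eq_mul]
        ring
      simp only [tm]
      rw [T.ext.e.map_smul, Derivation.leibniz, hVU, smul_eq_mul, smul_eq_mul]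
      rcases j with _ | i
      · rw [eP0, mul_zero, add_zero]
        show _ = G 1 - 0
        simp only [G, sub_zero, mul_smul_comm, smul_smul]
        rfl
      · rw [eP i, smul_add]
        simp only [G, mul_smul_comm, smul_smul]
        have hc : coef k (i + 1) * (((i + 1 : ℕ) : k) * ((m : k) - (i : k))) + coef k i * ((m - i : ℕ) : k) = 0 := by
          rw [← mul_assoc, mul_comm (coef k (i + 1)) ((i + 1 : ℕ) : k), coef_succ, Nat.cast_sub (by omega)]
          ring
        rw [eq_sub_iff_add_eq, add_assoc, mul_comm (U ^ (i + 1) * V ^ (m - (i + 1))) (P i),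
          show m - i - 1 = m - (i + 1) by omega, ← add_smul, hc, zero_smul, add_zero]
    rw [map_sum, Finset.sum_congr rfl hG, Finset.sum_range_sub G]
    simp [G]
  · let G : ℕ → MvPolynomial (σ ⊕ Bool) k := fun i => Nat.casesOn i 0
      fun j => coef k j • (P (j + 1) * (U ^ j * V ^ (m - j)))
    have hG : ∀ j ∈ Finset.range (m + 1), T.ext.f (tm j) = G (j + 1) - G j := by
      intro j hj
      rw [Finset.mem_range] at hj
      have hVU : T.ext.f (U ^ j * V ^ (m - j)) = (j : k) • (U ^ (j - 1) * V ^ (m - j + 1)) := by
        rw [Derivation.leibniz, Derivation.leibniz_pow, Derivation.leibniz_pow, fU, fV]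
        simp only [smul_zero, zero_add, smul_eq_mul, Nat.cast_smul_eq_nsmul, pow_succ, nsmul_eq_mul]
        ring
      simp only [tm]
      rw [T.ext.f.map_smul, Derivation.leibniz, hVU, fP, smul_eq_mul, smul_eq_mul]
      rcases j with _ | i
      · show _ = G 1 - 0
        simp only [G, Nat.cast_zero, zero_smul, mul_zero, zero_add, sub_zero]
        rw [mul_comm]
        rfl
      · rw [smul_add, add_comm]
        simp only [G, mul_smul_comm, smul_smul]
        have hc : coef k (i + 1) * ((i + 1 : ℕ) : k) + coef k i = 0 := by rw [mul_comm, coef_succ]; ring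
        rw [eq_sub_iff_add_eq, add_assoc, mul_comm (U ^ (i + 1) * V ^ (m - (i + 1))) (P (i + 1 + 1)),
          show m - (i + 1) + 1 = m - i by omega, show i + 1 - 1 = i by omega, ← add_smul, hc, zero_smul, add_zero]
    rw [map_sum, Finset.sum_congr rfl hG, Finset.sum_range_sub G]
    simp [G, hPm]
  · rw [map_sum, Finset.sum_eq_single 0]
    · simp [tm, coef, P, U, V, evPt, aeval_rename]
      exact aeval_X_left_apply p
    · intro j _ hj
      simp [tm, U, evPt, zero_pow hj]
    · simp

omit [Fintype σ] [CharZero k] in
/-- The kernel of the raising operator. -/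
def kerE : Subalgebra k (MvPolynomial σ k) where
  carrier := {p | T.e p = 0}
  add_mem' {a b} (ha : T.e a = 0) (hb : T.e b = 0) := show T.e (a + b) = 0 by rw [map_add, ha, hb, add_zero]
  mul_mem' {a b} (ha : T.e a = 0) (hb : T.e b = 0) := show T.e (a * b) = 0 by
    rw [Derivation.leibniz, ha, hb, smul_zero, smul_zero, add_zero]
  algebraMap_mem' r := T.e.map_algebraMap r

/-- The kernel of the raising operator is finitely generated. -/
theorem kerE_fg : T.kerE.FG := by
  classical
  have h : T.kerE = T.ext.inv.map evPt := by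
    refine le_antisymm (fun p (hp : T.e p = 0) => ?_) ?_
    · rw [← sum_homogeneousComponent p]
      refine Subalgebra.sum_mem _ fun d _ => ?_
      have hq : T.e (homogeneousComponent d p) = 0 := by rw [e_hom_comp, hp, map_zero]
      set q := homogeneousComponent d p
      obtain ⟨s, hs⟩ := exists_sum_components T.wt q
      rw [hs]
      refine Subalgebra.sum_mem _ fun n _ => ?_
      obtain ⟨F, hF, hFp⟩ := T.exists_invariant_of_primitive
        (d := d) (fun m hm => (homogeneousComponent_isHomogeneous d p) (d := m) (by
          rw [coeff_weightedHomogeneousComponent] at hm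
          exact fun h0 => hm (by rw [h0, ite_self])))
        (weightedHomogeneousComponent_isWeightedHomogeneous n q) (by rw [e_wt_comp, hq, map_zero])
      exact ⟨F, hF, hFp⟩
    · rintro _ ⟨F, hF, rfl⟩
      show T.e (evPt F) = 0
      rw [← evPt_e, hF.1, map_zero]
  rw [h]
  exact T.ext.inv_fg.map _

end Triple

end Groth.Agent.Weitz
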