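import Mathlib.Algebra.Module.PID
import Mathlib.Algebra.Polynomial.Module.AEval
import Mathlib.RingTheory.AdjoinRoot
import Mathlib.LinearAlgebra.DFinsupp
import Mathlib.RingTheory.Polynomial.Basic
import Mathlib.LinearAlgebra.Matrix.ToLin

/-!
# Chains for a nilpotent endomorphism
-/

set_option autoImplicit false

universe u v

namespace Groth.Agent.Weitz

open Polynomial DirectSum

/-- A nilpotent endomorphism of a finite dimensional space has a basis made of chains. -/
theorem exists_chain_basis {k : Type u} [Field k] {V : Type v} [AddCommGroup V] [Module k V] [Module.Finite k V]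
    (T : Module.End k V) (hT : IsNilpotent T) :
    ∃ (r : ℕ) (d : Fin r → ℕ) (b : Module.Basis (Σ i, Fin (d i)) k V),
      ∀ i (j : Fin (d i)), T (b ⟨i, j⟩) = if h : (j : ℕ) + 1 < d i then b ⟨i, ⟨j + 1, h⟩⟩ else 0 := by
  classical
  obtain ⟨N, hN⟩ := hT
  have htor : Module.IsTorsion' (Module.AEval' T) (Submonoid.powers (X : k[X])) := fun {x} =>
    ⟨⟨X ^ N, N, rfl⟩, by
      obtain ⟨v, rfl⟩ := (Module.AEval'.of T).surjective x
      show (X : k[X]) ^ N • Module.AEval'.of T v = 0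
      rw [Module.AEval'.X_pow_smul_of, hN, zero_smul, map_zero]⟩
  obtain ⟨r, e, ⟨Φ⟩⟩ := Module.torsion_by_prime_power_decomposition (p := (X : k[X])) irreducible_X htor
  let bs : ∀ i, Module.Basis (Fin (e i)) k (k[X] ⧸ k[X] ∙ (X : k[X]) ^ e i) := fun i =>
    ((AdjoinRoot.powerBasis' (monic_X_pow (R := k) (e i))).basis).reindex
      (finCongr (by rw [AdjoinRoot.powerBasis'_dim, natDegree_X_pow]))
  let Ψ : V ≃ₗ[k] ⨁ i, k[X] ⧸ k[X] ∙ (X : k[X]) ^ e i :=
    (Module.AEval'.of T).trans (Φ.restrictScalars k)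
  let b : Module.Basis (Σ i, Fin (e i)) k V := (DFinsupp.basis bs).map Ψ.symm
  refine ⟨r, e, b, fun i j => ?_⟩
  have hb : ∀ i (j : Fin (e i)), Ψ (b ⟨i, j⟩) =
      DirectSum.lof k[X] (Fin r) (fun i => k[X] ⧸ k[X] ∙ (X : k[X]) ^ e i) i (Submodule.Quotient.mk (X ^ (j : ℕ))) := by
    intro i j
    simp only [b, Module.Basis.map_apply, LinearEquiv.apply_symm_apply]
    rw [DFinsupp.basis]
    let pb := AdjoinRoot.powerBasis' (monic_X_pow (R := k) (e i))
    have h1 : ∀ l : Fin pb.dim, pb.basis l = (AdjoinRoot.mk ((X : k[X]) ^ e i) (X ^ (l : ℕ))) := fun l => by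
      rw [pb.basis_eq_pow, AdjoinRoot.powerBasis'_gen, map_pow, AdjoinRoot.mk_X]
    have hbs : bs i j = Submodule.Quotient.mk ((X : k[X]) ^ (j : ℕ)) :=
      (Module.Basis.reindex_apply pb.basis (finCongr _) j).trans (h1 _)
    rw [← hbs]
    simp [DirectSum.lof_eq_of]
    rfl
  apply Ψ.injective
  have hT' : Ψ (T (b ⟨i, j⟩)) = (X : k[X]) • Ψ (b ⟨i, j⟩) := by
    simp only [Ψ, LinearEquiv.trans_apply, LinearEquiv.restrictScalars_apply, ← map_smul,
      Module.AEval'.X_smul_of]
  rw [hT', hb, ← map_smul, ← Submodule.Quotient.mk_smul, smul_eq_mul, ← pow_succ']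
  split_ifs with h
  · rw [hb]
  · rw [show (j : ℕ) + 1 = e i by omega, map_zero,
      (Submodule.Quotient.mk_eq_zero _).mpr (Submodule.mem_span_singleton_self _), map_zero]

end Groth.Agent.Weitz
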