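import Mathlib.RingTheory.MvPolynomial.WeightedHomogeneous
import Mathlib.RingTheory.MvPolynomial.Homogeneous
import Mathlib.Algebra.MvPolynomial.Derivation
import Mathlib.RingTheory.Derivation.Lie

/-!
# Derivations and weighted homogeneous polynomials

A derivation of a polynomial ring which sends each variable to a weighted homogeneous polynomial of
weight raised by `c` raises all weights by `c`.
-/

set_option autoImplicit false

universe u v w

namespace Groth.Agent.Weitz

open MvPolynomial

variable {k : Type u} [CommRing k] {σ : Type v}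

section Weight

variable {M : Type w} [AddCommMonoid M] (wt : σ → M) (c : M) (D : Derivation k (MvPolynomial σ k) (MvPolynomial σ k))

theorem deriv_monomial_isWH (hD : ∀ s, IsWeightedHomogeneous wt (D (X s)) (wt s + c)) (d : σ →₀ ℕ) (a : k) :
    ∃ n, IsWeightedHomogeneous wt (monomial d a) n ∧ IsWeightedHomogeneous wt (D (monomial d a)) (n + c) := by
  refine MvPolynomial.induction_on_monomial
    (motive := fun q => ∃ n, IsWeightedHomogeneous wt q n ∧ IsWeightedHomogeneous wt (D q) (n + c)) ?_ ?_ d a
  · intro a
    exact ⟨0, isWeightedHomogeneous_C _ a, by rw [derivation_C]; exact isWeightedHomogeneous_zero _ _ _⟩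
  · rintro p s ⟨n, hp, hDp⟩
    refine ⟨n + wt s, hp.mul (isWeightedHomogeneous_X _ _ s), ?_⟩
    rw [D.leibniz, smul_eq_mul, smul_eq_mul]
    refine IsWeightedHomogeneous.add ?_ ?_
    · rw [add_assoc]
      exact hp.mul (hD s)
    · rw [add_comm n (wt s), add_assoc]
      exact (isWeightedHomogeneous_X _ _ s).mul hDp

theorem deriv_isWH (hD : ∀ s, IsWeightedHomogeneous wt (D (X s)) (wt s + c)) {p : MvPolynomial σ k} {n : M}
    (hp : IsWeightedHomogeneous wt p n) : IsWeightedHomogeneous wt (D p) (n + c) := by
  classical
  conv in D p => rw [p.as_sum, map_sum]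
  refine IsWeightedHomogeneous.sum _ _ _ fun d hd => ?_
  obtain ⟨m, hm, hDm⟩ := deriv_monomial_isWH wt c D hD d (coeff d p)
  have : m = n := by
    rw [← hm (d := d) (by simpa using mem_support_iff.mp hd), hp (mem_support_iff.mp hd)]
  exact this ▸ hDm

end Weight

section Component

variable {M : Type w} [AddCancelCommMonoid M] (wt : σ → M) (c : M) (D : Derivation k (MvPolynomial σ k) (MvPolynomial σ k))

theorem deriv_component (hD : ∀ s, IsWeightedHomogeneous wt (D (X s)) (wt s + c)) (p : MvPolynomial σ k) (n : M) :
    D (weightedHomogeneousComponent wt n p) = weightedHomogeneousComponent wt (n + c) (D p) := by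
  classical
  induction p using MvPolynomial.induction_on' with
  | add p q hp hq => simp only [map_add, hp, hq]
  | monomial d a =>
    obtain ⟨m, hm, hDm⟩ := deriv_monomial_isWH wt c D hD d a
    rw [weightedHomogeneousComponent_of_mem hm, weightedHomogeneousComponent_of_mem hDm]
    by_cases h : n = m
    · simp [h]
    · rw [if_neg h, if_neg fun h' => h (add_right_cancel h'), map_zero]

end Component

/-- A polynomial is the sum of finitely many of its components. -/
theorem exists_sum_components {M : Type w} [AddCommMonoid M] (wt : σ → M) (p : MvPolynomial σ k) :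
    ∃ s : Finset M, p = ∑ m ∈ s, weightedHomogeneousComponent wt m p := by
  classical
  refine ⟨p.support.image (Finsupp.weight wt), ?_⟩
  ext d
  rw [coeff_sum]
  simp only [coeff_weightedHomogeneousComponent, Finset.sum_ite_eq, Finset.mem_image]
  by_cases h : d ∈ p.support
  · rw [if_pos ⟨d, h, rfl⟩]
  · rw [notMem_support_iff.mp h, ite_self]

/-- The derivation `X s ↦ wt s • X s` multiplies a polynomial of weight `n` by `n`. -/
theorem euler {wt : σ → ℤ} (D : Derivation k (MvPolynomial σ k) (MvPolynomial σ k))
    (hD : ∀ s, D (X s) = (wt s : k) • X s) {p : MvPolynomial σ k} {n : ℤ}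
    (hp : IsWeightedHomogeneous wt p n) : D p = (n : k) • p := by
  classical
  have key : ∀ d a, ∃ m, IsWeightedHomogeneous wt (monomial d a : MvPolynomial σ k) m ∧
      D (monomial d a) = (m : k) • monomial d a := by
    intro d a
    refine MvPolynomial.induction_on_monomial
      (motive := fun q => ∃ m : ℤ, IsWeightedHomogeneous wt q m ∧ D q = (m : k) • q) ?_ ?_ d a
    · intro a
      exact ⟨0, isWeightedHomogeneous_C _ a, by rw [derivation_C, Int.cast_zero, zero_smul]⟩
    · rintro q s ⟨m, hq, hDq⟩
      refine ⟨m + wt s, hq.mul (isWeightedHomogeneous_X _ _ s), ?_⟩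
      rw [D.leibniz, smul_eq_mul, smul_eq_mul, hD, hDq, Int.cast_add, add_smul, mul_smul_comm, mul_smul_comm, mul_comm (X s) q,
        add_comm]
  conv_lhs => rw [p.as_sum, map_sum]
  conv_rhs => rw [p.as_sum, Finset.smul_sum]
  refine Finset.sum_congr rfl fun d hd => ?_
  obtain ⟨m, hm, hDm⟩ := key d (coeff d p)
  rw [hDm, ← hm (d := d) (by simpa using mem_support_iff.mp hd), hp (mem_support_iff.mp hd)]

end Groth.Agent.Weitz
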