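import Groth.Agent.Weitz.Sl2
import Mathlib.RingTheory.Polynomial.Basic
import Mathlib.RingTheory.Adjoin.FG

/-!
# Hilbert's finiteness theorem for a linear action of `sl₂`
-/

set_option autoImplicit false

universe u v

namespace Groth.Agent.Weitz

open MvPolynomial

namespace Triple

variable {k : Type u} [Field k] {σ : Type v} (T : Triple k σ)

/-- The algebra of invariants. -/
def inv : Subalgebra k (MvPolynomial σ k) where
  carrier := {p | T.e p = 0 ∧ T.f p = 0}
  add_mem' {a b} ha hb := ⟨by rw [map_add, ha.1, hb.1, add_zero], by rw [map_add, ha.2, hb.2, add_zero]⟩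
  mul_mem' {a b} ha hb := ⟨by rw [Derivation.leibniz, ha.1, hb.1, smul_zero, smul_zero, add_zero],
    by rw [Derivation.leibniz, ha.2, hb.2, smul_zero, smul_zero, add_zero]⟩
  algebraMap_mem' r := ⟨T.e.map_algebraMap r, T.f.map_algebraMap r⟩

theorem mem_inv {p : MvPolynomial σ k} : p ∈ T.inv ↔ T.e p = 0 ∧ T.f p = 0 := Iff.rfl

theorem C_mul_of_mem_inv {g : MvPolynomial σ k} (hg : g ∈ T.inv) (p : MvPolynomial σ k) :
    T.C (p * g) = T.C p * g := by
  have he : ∀ q, T.e (q * g) = T.e q * g := fun q => by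
    rw [Derivation.leibniz, hg.1, smul_zero, zero_add, smul_eq_mul, mul_comm]
  have hf : ∀ q, T.f (q * g) = T.f q * g := fun q => by
    rw [Derivation.leibniz, hg.2, smul_zero, zero_add, smul_eq_mul, mul_comm]
  simp only [C_apply, h_apply, he, hf, map_sub, sub_mul, add_mul, smul_mul_assoc]

variable [Fintype σ] [CharZero k]

/-- The invariants form a finitely generated algebra. -/
theorem inv_fg : T.inv.FG := by
  classical
  let G : Set (MvPolynomial σ k) := {g | g ∈ T.inv ∧ ∃ d, 0 < d ∧ IsHomogeneous g d}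
  obtain ⟨t, htG, ht⟩ := (Submodule.fg_span_iff_fg_span_finset_subset G).mp
    (IsNoetherian.noetherian (Submodule.span (MvPolynomial σ k) G))
  refine ⟨t, le_antisymm (Algebra.adjoin_le fun g hg => (htG hg).1) ?_⟩
  suffices hmain : ∀ d : ℕ, ∀ F ∈ T.inv, IsHomogeneous F d → F ∈ Algebra.adjoin k (t : Set (MvPolynomial σ k)) by
    intro F hF
    rw [← sum_homogeneousComponent F]
    refine Subalgebra.sum_mem _ fun i _ => hmain i _ ⟨?_, ?_⟩ (homogeneousComponent_isHomogeneous i F)
    · rw [e_hom_comp, hF.1, map_zero]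
    · rw [f_hom_comp, hF.2, map_zero]
  intro d
  induction d using Nat.strong_induction_on with
  | _ d IH =>
    intro F hF hFd
    rcases Nat.eq_zero_or_pos d with rfl | hd
    · rw [← homogeneousComponent_of_mem hFd |>.trans (if_pos rfl), homogeneousComponent_zero]
      exact Subalgebra.algebraMap_mem _ _
    let Z : Submodule k (MvPolynomial σ k) :=
      (Algebra.adjoin k (t : Set (MvPolynomial σ k))).toSubmodule ⊓ homogeneousSubmodule σ k d
    let W : Submodule k (MvPolynomial σ k) := Z ⊔ (homogeneousSubmodule σ k d).map T.C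
    have hterm : ∀ g ∈ t, ∀ a : MvPolynomial σ k, homogeneousComponent d (a * g) ∈ W := by
      intro g hg a
      obtain ⟨hgi, dg, hdg, hgd⟩ := htG hg
      rw [← sum_homogeneousComponent a, Finset.sum_mul, map_sum]
      refine Submodule.sum_mem _ fun i _ => ?_
      have hai := homogeneousComponent_isHomogeneous i a
      rw [homogeneousComponent_of_mem (hai.mul hgd)]
      split_ifs with hid
      · obtain ⟨b, c, hb, hc, hbe, hbf, hbc⟩ := T.exists_decomp hai
        rw [hbc, add_mul, ← T.C_mul_of_mem_inv hgi]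
        refine Submodule.add_mem_sup ⟨?_, hid ▸ hb.mul hgd⟩ ⟨c * g, hid ▸ hc.mul hgd, rfl⟩
        exact Subalgebra.mul_mem _ (IH i (by omega) b ⟨hbe, hbf⟩ hb) (Algebra.subset_adjoin hg)
      · exact W.zero_mem
    have hW : ∀ y ∈ Submodule.span (MvPolynomial σ k) (t : Set (MvPolynomial σ k)), homogeneousComponent d y ∈ W := by
      intro y hy
      obtain ⟨a, rfl⟩ := Submodule.mem_span_finset'.mp hy
      rw [map_sum]
      exact Submodule.sum_mem _ fun g _ => by rw [smul_eq_mul]; exact hterm g g.2 _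
    have hFW : F ∈ W := by
      have := hW F (ht ▸ Submodule.subset_span ⟨hF, d, hd, hFd⟩)
      rwa [homogeneousComponent_of_mem hFd, if_pos rfl] at this
    obtain ⟨z, ⟨hz, -⟩, _, ⟨c, hc, rfl⟩, hzc⟩ := Submodule.mem_sup.mp hFW
    have hzi : z ∈ T.inv := (Algebra.adjoin_le fun g hg => (htG hg).1 :
      Algebra.adjoin k (t : Set (MvPolynomial σ k)) ≤ T.inv) hz
    have hCc : T.C c ∈ T.inv := by
      rw [show T.C c = F - z from eq_sub_of_add_eq' hzc]
      exact T.inv.sub_mem hF hzi
    obtain ⟨h1, h2⟩ := T.invariant_of_C_C hc (T.C_of_invariant hCc.1 hCc.2)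
    rw [← hzc, T.C_of_invariant h1 h2, add_zero]
    exact hz

end Triple

end Groth.Agent.Weitz
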