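import Groth.Agent.Weitz.Deriv
import Mathlib.LinearAlgebra.FiniteDimensional.Lemmas
import Mathlib.Tactic.Ring
import Mathlib.Tactic.LinearCombination
import Mathlib.Tactic.Linarith

/-!
# Linear `sl₂`-actions on polynomial rings and their Casimir operator

For a triple of linear derivations the invariants are the kernel of the Casimir operator and also
of its square; consequently each homogeneous component splits as invariants plus the image of the
Casimir operator.
-/

set_option autoImplicit false

universe u v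

namespace Groth.Agent.Weitz

open MvPolynomial

/-- A linear action of `sl₂` on a polynomial ring, with the variables as weight vectors. -/
structure Triple (k : Type u) [Field k] (σ : Type v) where
  /-- the weights of the variables -/
  wt : σ → ℤ
  /-- raising operator -/
  e : Derivation k (MvPolynomial σ k) (MvPolynomial σ k)
  /-- lowering operator -/
  f : Derivation k (MvPolynomial σ k) (MvPolynomial σ k)
  e_wt : ∀ s, IsWeightedHomogeneous wt (e (X s)) (wt s + 2)
  f_wt : ∀ s, IsWeightedHomogeneous wt (f (X s)) (wt s + -2)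
  e_deg : ∀ s, IsHomogeneous (e (X s)) 1
  f_deg : ∀ s, IsHomogeneous (f (X s)) 1
  bracket : ∀ s, e (f (X s)) - f (e (X s)) = (wt s : k) • X s

namespace Triple

variable {k : Type u} [Field k] {σ : Type v} (T : Triple k σ)

/-- Exchanging the roles of raising and lowering. -/
def swap : Triple k σ where
  wt s := -T.wt s
  e := T.f
  f := T.e
  e_wt s := by
    intro d hd
    have h := T.f_wt s hd
    simp only [Finsupp.weight_apply, Finsupp.sum, smul_neg, Finset.sum_neg_distrib] at h ⊢
    omega
  f_wt s := by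
    intro d hd
    have h := T.e_wt s hd
    simp only [Finsupp.weight_apply, Finsupp.sum, smul_neg, Finset.sum_neg_distrib] at h ⊢
    omega
  e_deg := T.f_deg
  f_deg := T.e_deg
  bracket s := by rw [Int.cast_neg, neg_smul, ← T.bracket s, neg_sub]

theorem swap_isWH {p : MvPolynomial σ k} {n : ℤ} (hp : IsWeightedHomogeneous T.wt p n) :
    IsWeightedHomogeneous T.swap.wt p (-n) := by
  intro d hd
  have h := hp hd
  simp only [swap, Finsupp.weight_apply, Finsupp.sum, smul_neg, Finset.sum_neg_distrib] at h ⊢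
  omega

/-- The bracket, acting on a variable by its weight. -/
noncomputable def h : Derivation k (MvPolynomial σ k) (MvPolynomial σ k) := ⁅T.e, T.f⁆

theorem h_apply (p : MvPolynomial σ k) : T.h p = T.e (T.f p) - T.f (T.e p) := Derivation.commutator_apply _

theorem h_wh {p : MvPolynomial σ k} {n : ℤ} (hp : IsWeightedHomogeneous T.wt p n) : T.h p = (n : k) • p :=
  euler T.h (fun s => (T.h_apply _).trans (T.bracket s)) hp

theorem e_isWH {p : MvPolynomial σ k} {n : ℤ} (hp : IsWeightedHomogeneous T.wt p n) :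
    IsWeightedHomogeneous T.wt (T.e p) (n + 2) := deriv_isWH _ _ _ T.e_wt hp

theorem f_isWH {p : MvPolynomial σ k} {n : ℤ} (hp : IsWeightedHomogeneous T.wt p n) :
    IsWeightedHomogeneous T.wt (T.f p) (n + -2) := deriv_isWH _ _ _ T.f_wt hp

theorem e_isHom {p : MvPolynomial σ k} {d : ℕ} (hp : IsHomogeneous p d) : IsHomogeneous (T.e p) d := by
  have h := deriv_isWH (1 : σ → ℕ) 0 T.e (fun s => by rw [Pi.one_apply, add_zero]; exact T.e_deg s) hp
  rwa [add_zero] at h

theorem f_isHom {p : MvPolynomial σ k} {d : ℕ} (hp : IsHomogeneous p d) : IsHomogeneous (T.f p) d := T.swap.e_isHom hp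

theorem e_hom_comp (p : MvPolynomial σ k) (d : ℕ) :
    T.e (homogeneousComponent d p) = homogeneousComponent d (T.e p) :=
  deriv_component (1 : σ → ℕ) 0 T.e (fun s => by rw [Pi.one_apply, add_zero]; exact T.e_deg s) p d

theorem f_hom_comp (p : MvPolynomial σ k) (d : ℕ) :
    T.f (homogeneousComponent d p) = homogeneousComponent d (T.f p) := T.swap.e_hom_comp p d

theorem e_wt_comp (p : MvPolynomial σ k) (n : ℤ) :
    T.e (weightedHomogeneousComponent T.wt n p) = weightedHomogeneousComponent T.wt (n + 2) (T.e p) :=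
  deriv_component _ _ _ T.e_wt p n

variable [Fintype σ]

/-- The weights occurring in degree `d` are bounded. -/
theorem eq_zero_of_weight {p : MvPolynomial σ k} {d : ℕ} (hp : IsHomogeneous p d) {n : ℤ}
    (hn : IsWeightedHomogeneous T.wt p n) (hlt : (d : ℤ) * ∑ s, |T.wt s| < |n|) : p = 0 := by
  by_contra h
  obtain ⟨m, hm⟩ := exists_coeff_ne_zero h
  have h1 := hn hm
  have h2 := hp hm
  rw [Finsupp.weight_apply, Finsupp.sum_fintype _ _ (fun x => zero_nsmul (T.wt x))] at h1
  rw [Finsupp.weight_apply, Finsupp.sum_fintype _ _ (fun x => zero_nsmul ((1 : σ → ℕ) x))] at h2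
  simp only [Pi.one_apply, smul_eq_mul, mul_one] at h2
  simp only [nsmul_eq_mul] at h1
  have h3 : |n| ≤ ∑ s, (m s : ℤ) * ∑ t, |T.wt t| := by
    rw [← h1]
    refine (Finset.abs_sum_le_sum_abs _ _).trans (Finset.sum_le_sum fun s _ => ?_)
    rw [abs_mul, Nat.abs_cast]
    exact mul_le_mul_of_nonneg_left
      (Finset.single_le_sum (fun t _ => abs_nonneg (T.wt t)) (Finset.mem_univ s)) (Nat.cast_nonneg _)
  rw [← Finset.sum_mul, ← Nat.cast_sum, h2] at h3
  omega

theorem iterate_isWH {p : MvPolynomial σ k} {n : ℤ} (hp : IsWeightedHomogeneous T.wt p n) (j : ℕ) :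
    IsWeightedHomogeneous T.wt (T.e^[j] p) (n + 2 * j) := by
  induction j with
  | zero => simpa using hp
  | succ j ih =>
    rw [Function.iterate_succ_apply', Nat.cast_succ, mul_add, mul_one, ← add_assoc]
    exact T.e_isWH ih

theorem iterate_isHom {p : MvPolynomial σ k} {d : ℕ} (hp : IsHomogeneous p d) (j : ℕ) :
    IsHomogeneous (T.e^[j] p) d := by
  induction j with
  | zero => exact hp
  | succ j ih => rw [Function.iterate_succ_apply']; exact T.e_isHom ih

theorem exists_iterate_e_eq_zero {p : MvPolynomial σ k} {d : ℕ} (hp : IsHomogeneous p d) {n : ℤ}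
    (hn : IsWeightedHomogeneous T.wt p n) : ∃ N, T.e^[N] p = 0 := by
  refine ⟨((d : ℤ) * ∑ s, |T.wt s| + |n| + 1).toNat, T.eq_zero_of_weight (T.iterate_isHom hp _) (T.iterate_isWH hn _) ?_⟩
  have h0 : 0 ≤ (d : ℤ) * ∑ s, |T.wt s| := mul_nonneg (Nat.cast_nonneg _) (Finset.sum_nonneg fun _ _ => abs_nonneg _)
  have := abs_nonneg n
  rw [Int.toNat_of_nonneg (by omega)]
  have := neg_abs_le n
  have := le_abs_self (n + 2 * ((d : ℤ) * ∑ s, |T.wt s| + |n| + 1))
  omega

theorem e_iterate_f {p : MvPolynomial σ k} {n : ℤ} (hp : IsWeightedHomogeneous T.wt p n) (he : T.e p = 0) (j : ℕ) :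
    T.e (T.f^[j + 1] p) = (((j + 1 : ℕ) : k) * ((n : k) - (j : k))) • T.f^[j] p := by
  induction j with
  | zero =>
    have := T.h_wh hp
    rw [T.h_apply, he, map_zero, sub_zero] at this
    simpa using this
  | succ j ih =>
    rw [Function.iterate_succ_apply' T.f (j + 1)]
    have hw : IsWeightedHomogeneous T.wt (T.f^[j + 1] p) (n - 2 * ((j + 1 : ℕ) : ℤ)) := by
      have := T.swap.iterate_isWH (T.swap_isWH hp) (j + 1)
      have h2 := T.swap.swap_isWH this
      simp only [swap, neg_neg] at h2
      convert! h2 using 1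
      ring
    have h2 := T.h_wh hw
    rw [T.h_apply, sub_eq_iff_eq_add, ih, T.f.map_smul, ← Function.iterate_succ_apply' T.f (n := j)] at h2
    rw [h2, ← add_smul]
    congr 1
    push_cast
    ring

variable [CharZero k]

/-- A primitive vector has weight a natural number `N`, and `f ^ (N + 1)` kills it. -/
theorem exists_nat_weight {p : MvPolynomial σ k} {d : ℕ} (hd : IsHomogeneous p d) {n : ℤ}
    (hp : IsWeightedHomogeneous T.wt p n) (he : T.e p = 0) (hne : p ≠ 0) :
    ∃ N : ℕ, n = N ∧ T.f^[N + 1] p = 0 := by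
  classical
  have hex : ∃ N, T.f^[N] p = 0 := T.swap.exists_iterate_e_eq_zero hd (T.swap_isWH hp)
  obtain ⟨N, hN⟩ : ∃ N, Nat.find hex = N + 1 := Nat.exists_eq_succ_of_ne_zero fun h => hne (by
    have := Nat.find_spec hex
    rwa [h] at this)
  have h1 : T.f^[N + 1] p = 0 := hN ▸ Nat.find_spec hex
  have h2 : T.f^[N] p ≠ 0 := Nat.find_min hex (by omega)
  refine ⟨N, ?_, h1⟩
  have h3 := T.e_iterate_f hp he N
  rw [h1, map_zero, eq_comm, smul_eq_zero, mul_eq_zero] at h3
  rcases h3 with (h3 | h3) | h3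
  · exact absurd h3 (Nat.cast_ne_zero.mpr N.succ_ne_zero)
  · rw [sub_eq_zero] at h3
    exact_mod_cast h3
  · exact absurd h3 h2

omit [Fintype σ] [CharZero k] in
/-- The Casimir operator. -/
noncomputable def C : MvPolynomial σ k →ₗ[k] MvPolynomial σ k :=
  T.h.toLinearMap ∘ₗ T.h.toLinearMap + (2 : k) • T.h.toLinearMap + (4 : k) • (T.f.toLinearMap ∘ₗ T.e.toLinearMap)

omit [Fintype σ] [CharZero k] in
theorem C_apply (p : MvPolynomial σ k) :
    T.C p = T.h (T.h p) + (2 : k) • T.h p + (4 : k) • T.f (T.e p) := rfl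

omit [Fintype σ] [CharZero k] in
theorem C_of_invariant {p : MvPolynomial σ k} (he : T.e p = 0) (hf : T.f p = 0) : T.C p = 0 := by
  simp [C_apply, h_apply, he, hf]

omit [Fintype σ] [CharZero k] in
theorem C_swap (p : MvPolynomial σ k) : T.swap.C p = T.C p := by
  have hh : ∀ q, T.swap.h q = -T.h q := fun q => by rw [h_apply, h_apply]; exact (neg_sub _ _).symm
  simp only [C_apply, hh, map_neg, neg_neg]
  show T.h (T.h p) + (2 : k) • -T.h p + (4 : k) • T.e (T.f p) = _
  rw [show T.e (T.f p) = T.h p + T.f (T.e p) by rw [h_apply, sub_add_cancel]]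
  rw [smul_neg, smul_add]
  module

omit [Fintype σ] [CharZero k] in
theorem C_wh {p : MvPolynomial σ k} {n : ℤ} (hp : IsWeightedHomogeneous T.wt p n) :
    T.C p = ((n : k) * n + 2 * n) • p + (4 : k) • T.f (T.e p) := by
  rw [C_apply, T.h_wh hp, T.h.map_smul, T.h_wh hp, smul_smul, smul_smul, ← add_smul]

omit [Fintype σ] [CharZero k] in
theorem C_isWH {p : MvPolynomial σ k} {n : ℤ} (hp : IsWeightedHomogeneous T.wt p n) :
    IsWeightedHomogeneous T.wt (T.C p) n := by
  rw [T.C_wh hp]
  have h := T.f_isWH (T.e_isWH hp)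
  rw [add_neg_cancel_right] at h
  exact ((weightedHomogeneousSubmodule k T.wt n).add_mem ((weightedHomogeneousSubmodule k T.wt n).smul_mem _ hp)
    ((weightedHomogeneousSubmodule k T.wt n).smul_mem _ h))

omit [Fintype σ] [CharZero k] in
theorem C_isHom {p : MvPolynomial σ k} {d : ℕ} (hp : IsHomogeneous p d) : IsHomogeneous (T.C p) d := by
  have hh : ∀ {q : MvPolynomial σ k}, IsHomogeneous q d → IsHomogeneous (T.h q) d := fun hq => by
    rw [h_apply]
    exact (homogeneousSubmodule σ k d).sub_mem (T.e_isHom (T.f_isHom hq)) (T.f_isHom (T.e_isHom hq))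
  exact (homogeneousSubmodule σ k d).add_mem ((homogeneousSubmodule σ k d).add_mem (hh (hh hp))
    ((homogeneousSubmodule σ k d).smul_mem _ (hh hp))) ((homogeneousSubmodule σ k d).smul_mem _ (T.f_isHom (T.e_isHom hp)))

omit [Fintype σ] [CharZero k] in
theorem C_comp (p : MvPolynomial σ k) (n : ℤ) :
    weightedHomogeneousComponent T.wt n (T.C p) = T.C (weightedHomogeneousComponent T.wt n p) := by
  classical
  induction p using MvPolynomial.induction_on' with
  | add p q hp hq => simp only [map_add, hp, hq]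
  | monomial d a =>
    have hw : IsWeightedHomogeneous T.wt (monomial d a : MvPolynomial σ k) (Finsupp.weight T.wt d) :=
      isWeightedHomogeneous_monomial _ _ _ rfl
    rw [weightedHomogeneousComponent_of_mem (T.C_isWH hw), weightedHomogeneousComponent_of_mem hw]
    split_ifs <;> simp

omit [Fintype σ] [CharZero k] in
theorem e_C {p : MvPolynomial σ k} {n : ℤ} (hp : IsWeightedHomogeneous T.wt p n) : T.e (T.C p) = T.C (T.e p) := by
  have h1 := T.h_wh (T.e_isWH hp)
  rw [h_apply, sub_eq_iff_eq_add] at h1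
  rw [T.C_wh hp, T.C_wh (T.e_isWH hp), map_add, T.e.map_smul, T.e.map_smul, h1]
  push_cast
  rw [smul_add]
  module

/-- The kernel of the square of the Casimir operator consists of invariants. -/
theorem e_eq_zero_of_C_C {p : MvPolynomial σ k} {d : ℕ} (hd : IsHomogeneous p d) {n : ℤ}
    (hp : IsWeightedHomogeneous T.wt p n) (hC : T.C (T.C p) = 0) (hne : p ≠ 0) : n ≤ 0 ∧ (n = 0 → T.e p = 0) := by
  classical
  have hex := T.exists_iterate_e_eq_zero hd hp
  obtain ⟨N, hN⟩ : ∃ N, Nat.find hex = N + 1 := Nat.exists_eq_succ_of_ne_zero fun h => hne (by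
    have := Nat.find_spec hex
    rwa [h] at this)
  have h1 : T.e^[N + 1] p = 0 := hN ▸ Nat.find_spec hex
  have h2 : T.e^[N] p ≠ 0 := Nat.find_min hex (by omega)
  have hit : ∀ j, T.e^[j] (T.C (T.C p)) = T.C (T.C (T.e^[j] p)) := by
    intro j
    induction j with
    | zero => rfl
    | succ j ih =>
      rw [Function.iterate_succ_apply', ih, T.e_C (T.C_isWH (T.iterate_isWH hp j)), T.e_C (T.iterate_isWH hp j),
        ← Function.iterate_succ_apply' T.e]
  have hq := T.iterate_isWH hp N
  have heq : T.e (T.e^[N] p) = 0 := by rw [← Function.iterate_succ_apply' T.e, h1]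
  obtain ⟨m, hm, -⟩ := T.exists_nat_weight (T.iterate_isHom hd N) hq heq h2
  have hCq : T.C (T.e^[N] p) = ((m : k) * m + 2 * m) • T.e^[N] p := by
    rw [T.C_wh hq, heq, map_zero, smul_zero, add_zero, hm]
    simp
  have h3 : T.e^[N] (T.C (T.C p)) = 0 := by
    rw [hC]
    exact iterate_map_zero T.e N
  rw [hit, hCq, map_smul, hCq, smul_smul, smul_eq_zero] at h3
  have h4 : m = 0 := by
    rcases h3 with h3 | h3
    · have : (m * m + 2 * m) * (m * m + 2 * m) = 0 := by exact_mod_cast h3
      rcases Nat.mul_eq_zero.mp this with h | h <;> omega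
    · exact absurd h3 h2
  subst h4
  refine ⟨by omega, fun h0 => ?_⟩
  obtain rfl : N = 0 := by omega
  simpa using h1

/-- The kernel of the square of the Casimir operator consists of invariants. -/
theorem invariant_of_C_C {p : MvPolynomial σ k} {d : ℕ} (hd : IsHomogeneous p d) (hC : T.C (T.C p) = 0) :
    T.e p = 0 ∧ T.f p = 0 := by
  classical
  obtain ⟨s, hs⟩ := exists_sum_components T.wt p
  suffices ∀ n, T.e (weightedHomogeneousComponent T.wt n p) = 0 ∧ T.f (weightedHomogeneousComponent T.wt n p) = 0 by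
    rw [hs, map_sum, map_sum]
    exact ⟨Finset.sum_eq_zero fun n _ => (this n).1, Finset.sum_eq_zero fun n _ => (this n).2⟩
  intro n
  set q := weightedHomogeneousComponent T.wt n p with hq
  rcases eq_or_ne q 0 with h | h
  · simp [h]
  have hw : IsWeightedHomogeneous T.wt q n := weightedHomogeneousComponent_isWeightedHomogeneous n p
  have hqd : IsHomogeneous q d := fun m hm => hd (d := m) (by
    rw [hq, coeff_weightedHomogeneousComponent] at hm
    exact fun h0 => hm (by rw [h0, ite_self]))
  have hCq : T.C (T.C q) = 0 := by rw [hq, ← C_comp, ← C_comp, hC, map_zero]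
  have h1 := T.e_eq_zero_of_C_C hqd hw hCq h
  have h2 := T.swap.e_eq_zero_of_C_C hqd (T.swap_isWH hw) (by rw [C_swap, C_swap, hCq]) h
  exact ⟨h1.2 (by omega), h2.2 (by omega)⟩

/-- Each homogeneous polynomial is an invariant plus a value of the Casimir operator. -/
theorem exists_decomp {p : MvPolynomial σ k} {d : ℕ} (hd : IsHomogeneous p d) :
    ∃ b c : MvPolynomial σ k, IsHomogeneous b d ∧ IsHomogeneous c d ∧ T.e b = 0 ∧ T.f b = 0 ∧ p = b + T.C c := by
  let V := homogeneousSubmodule σ k d
  haveI : Module.Finite k V := Module.Finite.iff_fg.mpr (homogeneousSubmodule_fg σ k d)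
  let L : V →ₗ[k] V := (T.C.comp V.subtype).codRestrict V fun x => T.C_isHom x.2
  have hdis : Disjoint (LinearMap.ker L) (LinearMap.range L) := by
    rw [Submodule.disjoint_def]
    rintro _ hk ⟨y, rfl⟩
    have hcc : T.C (T.C y.1) = 0 := congrArg Subtype.val hk
    obtain ⟨h1, h2⟩ := T.invariant_of_C_C y.2 hcc
    exact Subtype.ext (T.C_of_invariant h1 h2)
  have htop : LinearMap.ker L ⊔ LinearMap.range L = ⊤ := by
    apply Submodule.eq_top_of_finrank_eq
    have h := Submodule.finrank_sup_add_finrank_inf_eq (LinearMap.ker L) (LinearMap.range L)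
    rw [disjoint_iff.mp hdis, finrank_bot, add_zero] at h
    rw [h, add_comm, L.finrank_range_add_finrank_ker]
  obtain ⟨b, hb, _, ⟨c, rfl⟩, hbc⟩ := Submodule.mem_sup.mp (htop.ge (Submodule.mem_top (x := (⟨p, hd⟩ : V))))
  have hb' : T.C b.1 = 0 := congrArg Subtype.val hb
  obtain ⟨h1, h2⟩ := T.invariant_of_C_C b.2 (by rw [hb', map_zero])
  exact ⟨b.1, c.1, b.2, c.2, h1, h2, (congrArg Subtype.val hbc).symm⟩

end Triple

end Groth.Agent.Weitz
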